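import Groth.Agent.Grpd.K392.EqFinal
import Groth.Agent.Grpd.K394.DescGrpd
import Groth.Agent.EqInt.K957.Sections
import Mathlib.CategoryTheory.Limits.Shapes.Equalizers

/-!
# Coverings are quotients in ringed spaces, and the quotient of a groupoid by a quasi-section

* `isQuot`: a flat surjective morphism of schemes locally of finite presentation is the coequalizer, in ringed
  spaces, of its kernel pair.
* `isColimit_of_quasiSection`: the formal part of "the quotient of `V` by `R_V` is the quotient of a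
  quasi-section `Z` by `R_Z`".
-/

set_option autoImplicit false
universe u v w

open CategoryTheory CategoryTheory.Limits AlgebraicGeometry Opposite TopologicalSpace

namespace K741.CovRS

open K392.EqColim K394.DescGrpd

/-- The functor from schemes to ringed spaces. -/
abbrev RS : Scheme.{u} ⥤ SheafedSpace.{_, _, u} CommRingCat.{u} :=
  Scheme.forgetToLocallyRingedSpace ⋙ LocallyRingedSpace.forgetToSheafedSpace

lemma cov_restrict {X Y : Scheme.{u}} {f : X ⟶ Y} (hf : Cov f) (V : Y.Opens) : Cov (f ∣_ V) := by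
  obtain ⟨_, hs, _⟩ := hf
  exact ⟨inferInstance, MorphismProperty.of_isPullback (isPullback_morphismRestrict f V).flip hs,
    inferInstance⟩

theorem app_surj {X Y P : Scheme.{u}} {f : X ⟶ Y} (hf : Cov f) {p q : P ⟶ X} (H : IsPullback p q f f)
    (V : Y.Opens) (s : Γ(X, f ⁻¹ᵁ V)) (e : op (q ⁻¹ᵁ f ⁻¹ᵁ V) ⟶ op (p ⁻¹ᵁ f ⁻¹ᵁ V))
    (hs : p.app (f ⁻¹ᵁ V) s = P.presheaf.map e (q.app (f ⁻¹ᵁ V) s)) : ∃ t, f.app V t = s := by
  have := (cov_restrict hf V).effectiveEpi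
  refine K957.Sections.exists_app_eq f H V s ?_
  have h1 : p.appLE (f ⁻¹ᵁ V) (p ⁻¹ᵁ (f ⁻¹ᵁ V) ⊓ q ⁻¹ᵁ (f ⁻¹ᵁ V)) inf_le_left =
      p.app (f ⁻¹ᵁ V) ≫ P.presheaf.map (homOfLE inf_le_left).op := rfl
  have h2 : q.appLE (f ⁻¹ᵁ V) (p ⁻¹ᵁ (f ⁻¹ᵁ V) ⊓ q ⁻¹ᵁ (f ⁻¹ᵁ V)) inf_le_right =
      q.app (f ⁻¹ᵁ V) ≫ P.presheaf.map (e ≫ (homOfLE inf_le_left).op) := rfl
  rw [h1, h2, Functor.map_comp]
  exact congr(P.presheaf.map (homOfLE inf_le_left).op $hs)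

/-- A covering is the coequalizer of its kernel pair in ringed spaces. -/
theorem isQuot {X Y P : Scheme.{u}} {f : X ⟶ Y} (hf : Cov f) {p q : P ⟶ X} (H : IsPullback p q f f) :
    IsQuot (RS.map p) (RS.map q) (RS.map f) where
  w := by rw [← Functor.map_comp, ← Functor.map_comp, H.w]
  top := by
    have := hf.flat
    have := hf.lfp
    exact f.isOpenMap.isQuotientMap f.continuous hf.surj.surj
  rel x x' h := by
    obtain ⟨z, hz₁, hz₂⟩ := Scheme.Pullback.exists_preimage_pullback x x' h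
    refine ⟨H.isoPullback.inv z, ?_, ?_⟩
    · refine Eq.trans ?_ hz₁
      change p (H.isoPullback.inv z) = _
      rw [← Scheme.Hom.comp_apply, H.isoPullback_inv_fst]
    · refine Eq.trans ?_ hz₂
      change q (H.isoPullback.inv z) = _
      rw [← Scheme.Hom.comp_apply, H.isoPullback_inv_snd]
  inj V := by
    have := (cov_restrict hf V).epi
    exact K957.Sections.app_injective f V
  surj V s e hs := app_surj hf H V s e hs

theorem epi_map {X Y : Scheme.{u}} {f : X ⟶ Y} (hf : Cov f) : Epi (RS.map f) :=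
  ⟨fun _ _ h => hom_ext (isQuot hf (IsPullback.of_hasPullback f f)) h⟩

section Abstract

variable {C : Type v} [Category.{w} C] {W Z V K A RV E Q : C}

/-- The formal part: the quotient of `V` by `RV` is the quotient of the quasi-section `Z` by `A`. -/
theorem isColimit_of_quasiSection (h : W ⟶ V) (pr : W ⟶ Z) (ιV : Z ⟶ V) (sec : Z ⟶ W)
    (hsec : sec ≫ h = ιV) (hsec' : sec ≫ pr = 𝟙 Z)
    (k₁ k₂ : K ⟶ W) (wk : k₁ ≫ h = k₂ ≫ h) (hk : Nonempty (IsColimit (Cofork.ofπ h wk)))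
    (a b : A ⟶ Z) (link : K ⟶ A) (hl₁ : link ≫ a = k₁ ≫ pr) (hl₂ : link ≫ b = k₂ ≫ pr)
    (s t : RV ⟶ V) (π : V ⟶ Q) (wπ : s ≫ π = t ≫ π) (hπ : IsColimit (Cofork.ofπ π wπ))
    (ρ : W ⟶ RV) (hρs : ρ ≫ s = h) (hρt : ρ ≫ t = pr ≫ ιV)
    (ε : E ⟶ RV) [Epi ε] (e₁ e₂ : E ⟶ W) (he₁ : e₁ ≫ h = ε ≫ t) (he₂ : e₂ ≫ h = ε ≫ s)
    (he : e₁ ≫ pr = e₂ ≫ pr) (w : a ≫ ιV ≫ π = b ≫ ιV ≫ π) :
    Nonempty (IsColimit (Cofork.ofπ (ιV ≫ π) w)) := by
  obtain ⟨hk⟩ := hk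
  have epiπ : ∀ {X : C} (m m' : Q ⟶ X), π ≫ m = π ≫ m' → m = m' := fun m m' hm =>
    Cofork.IsColimit.hom_ext hπ hm
  have epih : ∀ {X : C} (m m' : V ⟶ X), h ≫ m = h ≫ m' → m = m' := fun m m' hm =>
    Cofork.IsColimit.hom_ext hk hm
  have key : ∀ {X : C} (f : Z ⟶ X), a ≫ f = b ≫ f →
      ∃ m : Q ⟶ X, (ιV ≫ π) ≫ m = f := by
    intro X f hf
    have h1 : k₁ ≫ pr ≫ f = k₂ ≫ pr ≫ f := by
      rw [← reassoc_of% hl₁, ← reassoc_of% hl₂, hf]
    obtain ⟨f₁, hf₁⟩ : ∃ f₁ : V ⟶ X, h ≫ f₁ = pr ≫ f :=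
      ⟨Cofork.IsColimit.desc hk (pr ≫ f) h1, Cofork.IsColimit.π_desc' hk (pr ≫ f) h1⟩
    have h2 : s ≫ f₁ = t ≫ f₁ := by
      rw [← cancel_epi ε, ← reassoc_of% he₂, ← reassoc_of% he₁, hf₁, reassoc_of% he]
    obtain ⟨m, hm⟩ : ∃ m : Q ⟶ X, π ≫ m = f₁ :=
      ⟨Cofork.IsColimit.desc hπ f₁ h2, Cofork.IsColimit.π_desc' hπ f₁ h2⟩
    refine ⟨m, ?_⟩
    rw [Category.assoc, hm, ← hsec, Category.assoc, hf₁, reassoc_of% hsec']
  refine ⟨Cofork.IsColimit.mk' _ fun c => ⟨(key c.π c.condition).choose,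
    (key c.π c.condition).choose_spec, fun {m} hm => ?_⟩⟩
  have h1 := (key c.π c.condition).choose_spec
  have h2 : (ιV ≫ π) ≫ m = (ιV ≫ π) ≫ (key c.π c.condition).choose := hm.trans h1.symm
  apply epiπ
  apply epih
  have aux : ∀ m : Q ⟶ c.pt, h ≫ π ≫ m = pr ≫ (ιV ≫ π) ≫ m := by
    intro m
    rw [← hρs, Category.assoc, reassoc_of% wπ, reassoc_of% hρt, Category.assoc]
  rw [aux, aux, h2]

end Abstract

end K741.CovRS
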