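import Groth.Agent.Grpd.K741.CovRS
import Groth.Agent.Grpd.K393.SliceStalk
import Groth.Agent.Grpd.K393.Slice

/-!
# The ringed space quotient of a groupoid and of its restriction to a quasi-section
-/

set_option autoImplicit false
universe u

open CategoryTheory CategoryTheory.Limits AlgebraicGeometry Opposite TopologicalSpace

namespace K741.GrpdRS

open K394.DescGrpd K741.CovRS Groth.Agent.Grpsch.Points
open K393.Slice (sec sec_fst sec_snd sec_src)

variable {S : Scheme.{u}} (G : Grpd.GroupoidScheme S) {Z : Scheme.{u}} (g : Z ⟶ G.U)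

lemma cov_snd {X Y W : Scheme.{u}} {f : X ⟶ W} {g : Y ⟶ W} (hf : Cov f) : Cov (pullback.snd f g) := by
  obtain ⟨_, _, _⟩ := hf
  exact ⟨inferInstance, inferInstance, inferInstance⟩

section
variable {V : G.U.Opens} (hV : Set.range (K393.Slice.src G g) = V)

/-- `src : Z ×_U R ⟶ V`. -/
noncomputable def srcV : pullback g G.t ⟶ (V : Scheme.{u}) :=
  IsOpenImmersion.lift V.ι (K393.Slice.src G g) (by rw [Scheme.Opens.range_ι]; exact hV.le)

@[reassoc (attr := simp)]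
lemma srcV_ι : srcV G g hV ≫ V.ι = K393.Slice.src G g := IsOpenImmersion.lift_fac _ _ _

lemma cov_srcV (hf : Flat (K393.Slice.src G g)) (hl : LocallyOfFinitePresentation (K393.Slice.src G g)) :
    Cov (srcV G g hV) := by
  have H : IsPullback (𝟙 _) (srcV G g hV) (K393.Slice.src G g) V.ι := by
    refine K393.SliceStalk.isPullback_of_exists (by rw [srcV_ι, Category.id_comp]) ?_ ?_
    · intro T a b h
      refine ⟨a, Category.comp_id _, ?_⟩
      rw [← cancel_mono V.ι, Category.assoc, srcV_ι, h]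
    · intro T a b h _
      simpa using h
  refine ⟨MorphismProperty.of_isPullback H hf, ⟨fun y => ?_⟩, MorphismProperty.of_isPullback H hl⟩
  obtain ⟨x, hx⟩ := hV.ge y.2
  refine ⟨x, Subtype.ext ?_⟩
  have h1 : V.ι (srcV G g hV x) = K393.Slice.src G g x := by
    rw [← Scheme.Hom.comp_apply, srcV_ι]
  exact h1.trans hx

end

section
variable (V : G.U.Opens) (hsat : G.s ⁻¹ᵁ V = G.t ⁻¹ᵁ V)

/-- the target of an arrow in `R_V` -/
noncomputable def tV : (G.s ⁻¹ᵁ V : Scheme.{u}) ⟶ (V : Scheme.{u}) := (G.R.isoOfEq hsat).hom ≫ (G.t ∣_ V)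

@[reassoc (attr := simp)]
lemma tV_ι : tV G V hsat ≫ V.ι = (G.s ⁻¹ᵁ V).ι ≫ G.t := by
  rw [tV, Category.assoc, morphismRestrict_ι, ← Category.assoc, Scheme.isoOfEq_hom_ι]

lemma exists_RV {T : Scheme.{u}} (r : T ⟶ G.R) (y x : T ⟶ (V : Scheme.{u})) (hy : r ≫ G.s = y ≫ V.ι)
    (hx : r ≫ G.t = x ≫ V.ι) :
    ∃ l : T ⟶ (G.s ⁻¹ᵁ V : Scheme.{u}), l ≫ (G.s ⁻¹ᵁ V).ι = r ∧ l ≫ (G.s ∣_ V) = y ∧ l ≫ tV G V hsat = x := by
  have H := (isPullback_morphismRestrict G.s V).flip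
  refine ⟨H.lift r y hy, H.lift_fst r y hy, H.lift_snd r y hy, ?_⟩
  rw [← cancel_mono V.ι, Category.assoc, tV_ι, ← Category.assoc, H.lift_fst r y hy, hx]

end

/-- The ringed space quotient `V/R_V` is the quotient of `Z` by the restricted groupoid. -/
theorem nonempty_isColimit (hf : Flat (K393.Slice.src G g))
    (hl : LocallyOfFinitePresentation (K393.Slice.src G g)) (V : G.U.Opens)
    (hV : Set.range (K393.Slice.src G g) = V) (hsat : G.s ⁻¹ᵁ V = G.t ⁻¹ᵁ V) (ιV : Z ⟶ (V : Scheme.{u}))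
    (hι : ιV ≫ V.ι = g) {A : Scheme.{u}} (a b : A ⟶ Z) (rA : A ⟶ G.R) (hAt : rA ≫ G.t = a ≫ g)
    (hAs : rA ≫ G.s = b ≫ g)
    (hA : ∀ {T : Scheme.{u}} (z₁ z₂ : T ⟶ Z) (r : T ⟶ G.R), r ≫ G.t = z₁ ≫ g → r ≫ G.s = z₂ ≫ g →
      ∃ l : T ⟶ A, l ≫ a = z₁ ∧ l ≫ b = z₂) :
    ∃ wR : RS.map a ≫ (RS.map ιV ≫ coequalizer.π (RS.map (G.s ∣_ V))
          (RS.map ((G.R.isoOfEq hsat).hom ≫ (G.t ∣_ V)))) =
        RS.map b ≫ (RS.map ιV ≫ coequalizer.π (RS.map (G.s ∣_ V))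
          (RS.map ((G.R.isoOfEq hsat).hom ≫ (G.t ∣_ V)))),
      Nonempty (IsColimit (Cofork.ofπ (RS.map ιV ≫ coequalizer.π (RS.map (G.s ∣_ V))
        (RS.map ((G.R.isoOfEq hsat).hom ≫ (G.t ∣_ V)))) wR)) := by
  let h := srcV G g hV
  have hh : h ≫ V.ι = K393.Slice.src G g := srcV_ι G g hV
  have hcov : Cov h := cov_srcV G g hV hf hl
  let pr := pullback.fst g G.t
  let t := tV G V hsat
  have ht : t ≫ V.ι = (G.s ⁻¹ᵁ V).ι ≫ G.t := tV_ι G V hsat
  let π := coequalizer.π (RS.map (G.s ∣_ V)) (RS.map t)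
  have wπ : RS.map (G.s ∣_ V) ≫ π = RS.map t ≫ π := coequalizer.condition _ _
  -- the restricted groupoid maps to `R_V`
  obtain ⟨α, -, hα₁, hα₂⟩ := exists_RV G V hsat rA (b ≫ ιV) (a ≫ ιV)
    (by rw [hAs, Category.assoc, hι]) (by rw [hAt, Category.assoc, hι])
  have w : RS.map a ≫ RS.map ιV ≫ π = RS.map b ≫ RS.map ιV ≫ π := by
    rw [← Functor.map_comp_assoc, ← Functor.map_comp_assoc, ← hα₁, ← hα₂, Functor.map_comp_assoc,
      Functor.map_comp_assoc, wπ]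
  refine ⟨w, ?_⟩
  -- the section
  have hsec : sec G g ≫ h = ιV := by
    rw [← cancel_mono V.ι, Category.assoc, hh, sec_src, hι]
  -- the link
  let K := pullback h h
  let k₁ : K ⟶ _ := pullback.fst h h
  let k₂ : K ⟶ _ := pullback.snd h h
  have hk : k₁ ≫ K393.Slice.src G g = k₂ ≫ K393.Slice.src G g := by
    rw [← hh, ← Category.assoc, ← Category.assoc]
    exact congr($(pullback.condition) ≫ V.ι)
  have hlk : (k₁ ≫ pullback.snd g G.t) ≫ G.s = ((k₂ ≫ pullback.snd g G.t) ≫ G.i) ≫ G.t := by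
    rw [inv_t, Category.assoc, Category.assoc]
    exact hk
  obtain ⟨link, hl₁, hl₂⟩ := hA (k₁ ≫ pr) (k₂ ≫ pr)
    (mul G (k₁ ≫ pullback.snd g G.t) ((k₂ ≫ pullback.snd g G.t) ≫ G.i) hlk)
    (by rw [mul_t, Category.assoc, Category.assoc, pullback.condition])
    (by rw [mul_s, inv_s, Category.assoc, Category.assoc, pullback.condition])
  -- `ρ`
  obtain ⟨ρ, -, hρ₁, hρ₂⟩ := exists_RV G V hsat (pullback.snd g G.t) h (pr ≫ ιV) hh.symm
    (by rw [Category.assoc, hι, pullback.condition])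
  -- `E`
  let E := pullback h t
  let e₁ : E ⟶ _ := pullback.fst h t
  let ε : E ⟶ _ := pullback.snd h t
  have he₁ : e₁ ≫ h = ε ≫ t := pullback.condition
  have hm : (e₁ ≫ pullback.snd g G.t) ≫ G.s = (ε ≫ (G.s ⁻¹ᵁ V).ι) ≫ G.t := by
    have := congr($he₁ ≫ V.ι)
    rw [Category.assoc, hh, Category.assoc, ht] at this
    rw [Category.assoc, Category.assoc]
    exact this
  let e₂ : E ⟶ pullback g G.t := pullback.lift (e₁ ≫ pr)
    (mul G (e₁ ≫ pullback.snd g G.t) (ε ≫ (G.s ⁻¹ᵁ V).ι) hm)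
    (by rw [mul_t, Category.assoc, Category.assoc, pullback.condition])
  have he₂ : e₂ ≫ h = ε ≫ (G.s ∣_ V) := by
    rw [← cancel_mono V.ι, Category.assoc, hh, Category.assoc, morphismRestrict_ι]
    change e₂ ≫ pullback.snd g G.t ≫ G.s = _
    rw [pullback.lift_snd_assoc, mul_s, Category.assoc]
  have he : e₁ ≫ pr = e₂ ≫ pr := (pullback.lift_fst _ _ _).symm
  have hε : Cov ε := cov_snd hcov
  have := epi_map hε
  have wk : RS.map k₁ ≫ RS.map h = RS.map k₂ ≫ RS.map h := by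
    rw [← Functor.map_comp, ← Functor.map_comp, pullback.condition]
  refine isColimit_of_quasiSection (RS.map h) (RS.map pr) (RS.map ιV) (RS.map (sec G g)) ?_ ?_
    (RS.map k₁) (RS.map k₂) wk ((isQuot hcov (IsPullback.of_hasPullback h h)).nonempty_isColimit wk)
    (RS.map a) (RS.map b) (RS.map link) ?_ ?_ (RS.map (G.s ∣_ V)) (RS.map t) π wπ
    (coequalizerIsCoequalizer _ _) (RS.map ρ) ?_ ?_ (RS.map ε) (RS.map e₁) (RS.map e₂) ?_ ?_ ?_ w
  · rw [← Functor.map_comp, hsec]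
  · rw [← Functor.map_comp, sec_fst, CategoryTheory.Functor.map_id]
  · rw [← Functor.map_comp, ← Functor.map_comp, hl₁]
  · rw [← Functor.map_comp, ← Functor.map_comp, hl₂]
  · rw [← Functor.map_comp, hρ₁]
  · rw [← Functor.map_comp, ← Functor.map_comp, hρ₂]
  · rw [← Functor.map_comp, ← Functor.map_comp, he₁]
  · rw [← Functor.map_comp, ← Functor.map_comp, he₂]
  · rw [← Functor.map_comp, ← Functor.map_comp, he]

end K741.GrpdRS
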