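import Groth.Agent.Grpd.K741.SliceEx
import Groth.Agent.Grpd.K741.GrpdRS

/-!
# The groupoid induced on a slice
-/

set_option autoImplicit false
universe u

open CategoryTheory CategoryTheory.Limits AlgebraicGeometry Opposite TopologicalSpace

namespace K741.SliceAsm

open Groth.Agent Groth.Agent.Grpsch.Points Groth.Agent.Grpsch.Restrict
open K741.SliceEx K741.SliceFin

variable {S : Scheme.{u}} (G : Grpd.GroupoidScheme S) {Z : Scheme.{u}} (g : Z ⟶ G.U)

/-- `Z ×_S Z ⟶ U ×_S U`. -/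
noncomputable abbrev mp : pullback (g ≫ G.pU) (g ≫ G.pU) ⟶ pullback G.pU G.pU :=
  pullback.map (g ≫ G.pU) (g ≫ G.pU) G.pU G.pU g g (𝟙 S) (Category.comp_id _) (Category.comp_id _)

/-- The target of the groupoid induced on `Z`. -/
noncomputable abbrev ta : pullback (mp G g) G.j ⟶ Z :=
  pullback.fst (mp G g) G.j ≫ pullback.fst (g ≫ G.pU) (g ≫ G.pU)

/-- The source of the groupoid induced on `Z`. -/
noncomputable abbrev sa : pullback (mp G g) G.j ⟶ Z :=
  pullback.fst (mp G g) G.j ≫ pullback.snd (g ≫ G.pU) (g ≫ G.pU)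

theorem ta_w : pullback.snd (mp G g) G.j ≫ G.t = ta G g ≫ g := by
  have := congr($(pullback.condition (f := mp G g) (g := G.j)) ≫ pullback.fst G.pU G.pU)
  rw [Category.assoc, Category.assoc, j_fst, pullback.lift_fst] at this
  rw [← this, Category.assoc]

theorem sa_w : pullback.snd (mp G g) G.j ≫ G.s = sa G g ≫ g := by
  have := congr($(pullback.condition (f := mp G g) (g := G.j)) ≫ pullback.snd G.pU G.pU)
  rw [Category.assoc, Category.assoc, j_snd, pullback.lift_snd] at this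
  rw [← this, Category.assoc]

/-- Comparison with the restriction. -/
noncomputable def iso : pullback (mp G g) G.j ≅ arrows G g :=
  (K393.SliceMain.isPullback_restrict_j G g).flip.isoPullback.symm

theorem iso_tgt : (iso G g).hom ≫ tgt G g = ta G g := by
  have h1 : (restrict G g).j ≫ pullback.fst (g ≫ G.pU) (g ≫ G.pU) = tgt G g := j_fst (restrict G g)
  have h2 : (iso G g).hom ≫ (restrict G g).j = pullback.fst (mp G g) G.j :=
    (K393.SliceMain.isPullback_restrict_j G g).flip.isoPullback_inv_fst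
  exact ((iso G g).hom ≫= h1.symm).trans ((Category.assoc _ _ _).symm.trans (h2 =≫ _))

theorem iso_src : (iso G g).hom ≫ src G g = sa G g := by
  have h1 : (restrict G g).j ≫ pullback.snd (g ≫ G.pU) (g ≫ G.pU) = src G g := j_snd (restrict G g)
  have h2 : (iso G g).hom ≫ (restrict G g).j = pullback.fst (mp G g) G.j :=
    (K393.SliceMain.isPullback_restrict_j G g).flip.isoPullback_inv_fst
  exact ((iso G g).hom ≫= h1.symm).trans ((Category.assoc _ _ _).symm.trans (h2 =≫ _))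

theorem exists_lift {T : Scheme.{u}} (z₁ z₂ : T ⟶ Z) (r : T ⟶ G.R) (h₁ : r ≫ G.t = z₁ ≫ g)
    (h₂ : r ≫ G.s = z₂ ≫ g) : ∃ l : T ⟶ pullback (mp G g) G.j, l ≫ ta G g = z₁ ∧ l ≫ sa G g = z₂ :=
  ⟨mk G g z₁ r z₂ h₁ h₂ ≫ (iso G g).inv, by rw [← iso_tgt, Category.assoc, Iso.inv_hom_id_assoc, mk_tgt],
    by rw [← iso_src, Category.assoc, Iso.inv_hom_id_assoc, mk_src]⟩

/-- A property stable under base change passes from `Z ×_U R ⟶ U` to the source of the induced groupoid. -/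
theorem prop_sa (P : MorphismProperty Scheme.{u}) [P.IsStableUnderBaseChange] [P.RespectsIso]
    (h : P (K393.Slice.src G g)) : P (sa G g) := by
  rw [← iso_src]
  refine (P.cancel_left_of_respectsIso _ _).mpr ?_
  exact MorphismProperty.pullback_snd _ _ h

theorem prop_ta (P : MorphismProperty Scheme.{u}) [P.IsStableUnderBaseChange] [P.RespectsIso]
    (h : P (K393.Slice.src G g)) : P (ta G g) := by
  rw [← iso_tgt]
  refine (P.cancel_left_of_respectsIso _ _).mpr ?_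
  have h1 : P (restrict G g).s := MorphismProperty.pullback_snd (P := P) (K393.Slice.src G g) g h
  exact (s_iff_t (restrict G g) P).1 h1

theorem isAffine_prod [IsAffine Z] (S₀ : S.Opens) (hS₀ : IsAffineOpen S₀)
    (hZ : ∀ w : Z, (g ≫ G.pU) w ∈ S₀) : IsAffine (pullback (g ≫ G.pU) (g ≫ G.pU)) :=
  isAffine_pullback _ _ S₀ hS₀ hZ hZ

theorem quasiCompact_ta [QuasiSeparated G.pU] [QuasiCompact G.s] [IsAffine Z] (S₀ : S.Opens)
    (hS₀ : IsAffineOpen S₀) (hZ : ∀ w : Z, (g ≫ G.pU) w ∈ S₀) :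
    QuasiCompact (ta G g) ∧ QuasiCompact (sa G g) := by
  have := quasiCompact_j G
  have := isAffine_prod G g S₀ hS₀ hZ
  exact ⟨inferInstance, inferInstance⟩

theorem quasiSeparated_ta [QuasiSeparated G.s] [IsAffine Z] (S₀ : S.Opens)
    (hS₀ : IsAffineOpen S₀) (hZ : ∀ w : Z, (g ≫ G.pU) w ∈ S₀) :
    QuasiSeparated (ta G g) ∧ QuasiSeparated (sa G g) := by
  have := quasiSeparated_j G
  have := isAffine_prod G g S₀ hS₀ hZ
  exact ⟨inferInstance, inferInstance⟩

section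

variable (V : G.U.Opens) (hV : Set.range ⇑(K393.Slice.src G g) = (V : Set G.U))

include hV

theorem mem_V (y : G.U) : y ∈ V ↔ ∃ (w : Z) (r : G.R), G.t r = g w ∧ G.s r = y := by
  have : y ∈ V ↔ y ∈ Set.range ⇑(K393.Slice.src G g) := by rw [hV]; rfl
  rw [this]
  constructor
  · rintro ⟨v, rfl⟩
    refine ⟨pullback.fst g G.t v, pullback.snd g G.t v, ?_, ?_⟩
    · rw [← Scheme.Hom.comp_apply, ← Scheme.Hom.comp_apply, pullback.condition]
    · rw [← Scheme.Hom.comp_apply]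
  · rintro ⟨w, r, h, rfl⟩
    obtain ⟨v, hv1, hv2⟩ := Scheme.Pullback.exists_preimage_pullback w r h.symm
    exact ⟨v, by rw [Scheme.Hom.comp_apply, hv2]⟩

theorem saturated : G.s ⁻¹ᵁ V = G.t ⁻¹ᵁ V := by
  ext r
  change G.s r ∈ V ↔ G.t r ∈ V
  rw [mem_V G g V hV, mem_V G g V hV]
  constructor
  · rintro ⟨w, q, h1, h2⟩
    obtain ⟨r', h3, h4⟩ := exists_inv G r
    obtain ⟨c, hc1, hc2⟩ := exists_comp G q r' (by rw [h2, h3])
    exact ⟨w, c, by rw [hc1, h1], by rw [hc2, h4]⟩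
  · rintro ⟨w, q, h1, h2⟩
    obtain ⟨c, hc1, hc2⟩ := exists_comp G q r h2
    exact ⟨w, c, by rw [hc1, h1], hc2⟩

theorem g_mem (w : Z) : g w ∈ V :=
  (mem_V G g V hV _).2 ⟨w, G.e (g w), by rw [← Scheme.Hom.comp_apply, G.e_t]; rfl,
    by rw [← Scheme.Hom.comp_apply, G.e_s]; rfl⟩

theorem exists_ιV : ∃ ιV : Z ⟶ (V : Scheme.{u}), ιV ≫ V.ι = g :=
  ⟨IsOpenImmersion.lift V.ι g (by
    rw [Scheme.Opens.range_ι]; rintro _ ⟨w, rfl⟩; exact g_mem G g V hV w),
    IsOpenImmersion.lift_fac _ _ _⟩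

theorem exists_cover (hf : Flat (K393.Slice.src G g)) (hl : LocallyOfFinitePresentation (K393.Slice.src G g))
    (T : Scheme.{u}) (v : T ⟶ G.U) (hv : Set.range ⇑v ⊆ (V : Set G.U)) :
    ∃ (T' : Scheme.{u}) (c : T' ⟶ T) (r : T' ⟶ G.R) (z : T' ⟶ Z),
      Flat c ∧ LocallyOfFinitePresentation c ∧ Surjective c ∧ r ≫ G.t = c ≫ v ∧ z ≫ g = r ≫ G.s := by
  refine ⟨pullback v (K393.Slice.src G g), pullback.fst _ _, pullback.snd _ _ ≫ pullback.snd g G.t ≫ G.i,
    pullback.snd _ _ ≫ pullback.fst g G.t, inferInstance, inferInstance, ⟨fun y => ?_⟩, ?_, ?_⟩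
  · have : v y ∈ Set.range ⇑(K393.Slice.src G g) := by rw [hV]; exact hv ⟨y, rfl⟩
    obtain ⟨q, hq⟩ := this
    obtain ⟨w, hw, -⟩ := Scheme.Pullback.exists_preimage_pullback y q hq.symm
    exact ⟨w, hw⟩
  · rw [Category.assoc, Category.assoc, G.i_t, pullback.condition]
  · rw [Category.assoc, Category.assoc, Category.assoc, G.i_s, pullback.condition]

end

end K741.SliceAsm
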