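import Groth.Agent.Grpd.K741.SliceFin
import Groth.Agent.S1936

/-!
# Slices through a point closed in its fibre, for flat groupoids
-/

set_option autoImplicit false
universe u

open CategoryTheory CategoryTheory.Limits AlgebraicGeometry Opposite TopologicalSpace

namespace K741.SliceEx

open Groth.Agent Groth.Agent.Grpsch.Points Groth.Agent.Grpsch.Restrict
open Groth.Agent.CycB.RelDim K741.SliceFin
open K393.Slice (sec isPullback_trans isPullback_fst iff_sec)
open K393.SliceCM (isCMAt_comp_iff isCMAt_iff_of_isPullback)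
open K393.SliceMain (kap kap_src sec_kap_apply)

/-- The residue field extension at an algebraic point of a morphism locally of finite type is finite. -/
theorem finite_residueFieldMap {X Y : Scheme.{u}} (f : X ⟶ Y) [LocallyOfFiniteType f] (x : X)
    (h : rtd f x = 0) : (f.residueFieldMap x).hom.Finite := by
  let := (f.residueFieldMap x).hom.toAlgebra
  have htr : Algebra.trdeg (Y.residueField (f x)) (X.residueField x) = 0 := h
  have halg : Algebra.IsAlgebraic (Y.residueField (f x)) (X.residueField x) :=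
    trdeg_eq_zero_iff.mp htr
  have hess : (f.residueFieldMap x).hom.EssFiniteType := by
    have h1 : (f.stalkMap x).hom.EssFiniteType := LocallyOfFiniteType.stalkMap f x
    have h2 : (X.residue x).hom.EssFiniteType :=
      (RingHom.FiniteType.of_surjective _ (X.residue_surjective _)).essFiniteType
    have h3 := h1.comp h2
    rw [← CommRingCat.hom_comp, ← Scheme.residue_residueFieldMap, CommRingCat.hom_comp] at h3
    exact RingHom.EssFiniteType.of_comp _ h3
  have : Algebra.EssFiniteType (Y.residueField (f x)) (X.residueField x) := hess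
  have : Module.Finite (Y.residueField (f x)) (X.residueField x) :=
    Algebra.finite_of_essFiniteType_of_isAlgebraic
  exact this

theorem locallyOfFiniteType_residueFieldMap {X Y : Scheme.{u}} (f : X ⟶ Y) [LocallyOfFiniteType f]
    (x : X) (h : rtd f x = 0) : LocallyOfFiniteType (Spec.map (f.residueFieldMap x)) := by
  have : IsFinite (Spec.map (f.residueFieldMap x)) :=
    (IsFinite.SpecMap_iff _).2 (finite_residueFieldMap f x h)
  infer_instance

section Mono

variable {Z T B S₀ S : Scheme.{u}}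

/-- A fibre product over `S` of two affine schemes mapping to an affine open of `S` is affine. -/
theorem isAffine_pullback (f : Z ⟶ S) (q : T ⟶ S) (V : S.Opens) (hV : IsAffineOpen V) [IsAffine Z]
    [IsAffine T] (hf : ∀ z, f z ∈ V) (hq : ∀ t, q t ∈ V) : IsAffine (pullback f q) := by
  have : IsAffine V := hV
  let f₀ : Z ⟶ V := IsOpenImmersion.lift V.ι f (by
    rw [Scheme.Opens.range_ι]; rintro _ ⟨z, rfl⟩; exact hf z)
  let q₀ : T ⟶ V := IsOpenImmersion.lift V.ι q (by
    rw [Scheme.Opens.range_ι]; rintro _ ⟨z, rfl⟩; exact hq z)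
  have hf₀ : f₀ ≫ V.ι = f := IsOpenImmersion.lift_fac _ _ _
  have hq₀ : q₀ ≫ V.ι = q := IsOpenImmersion.lift_fac _ _ _
  have H : IsPullback (pullback.fst f₀ q₀) (pullback.snd f₀ q₀) f q := by
    refine K393.SliceStalk.isPullback_of_exists ?_ ?_ ?_
    · rw [← hf₀, ← hq₀, pullback.condition_assoc]
    · intro T' a b h
      have h' : a ≫ f₀ = b ≫ q₀ := by
        rw [← cancel_mono V.ι, Category.assoc, Category.assoc, hf₀, hq₀]
        exact h
      exact ⟨pullback.lift a b h', pullback.lift_fst _ _ _, pullback.lift_snd _ _ _⟩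
    · exact fun a b h h' => pullback.hom_ext h h'
  exact IsAffine.of_isIso H.isoPullback.inv

end Mono

variable {S : Scheme.{u}} (G : Grpd.GroupoidScheme S)

theorem exists_comp (r c : G.R) (h : G.s r = G.t c) : ∃ q : G.R, G.t q = G.t r ∧ G.s q = G.s c := by
  obtain ⟨w, hw1, hw2⟩ := Scheme.Pullback.exists_preimage_pullback r c h
  refine ⟨G.c w, ?_, ?_⟩
  · rw [← Scheme.Hom.comp_apply, c_t, Scheme.Hom.comp_apply, hw1]
  · rw [← Scheme.Hom.comp_apply, c_s, Scheme.Hom.comp_apply, hw2]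

theorem exists_inv (r : G.R) : ∃ q : G.R, G.t q = G.s r ∧ G.s q = G.t r := by
  refine ⟨G.i r, ?_, ?_⟩
  · rw [← Scheme.Hom.comp_apply, G.i_t]
  · rw [← Scheme.Hom.comp_apply, G.i_s]

/-- `j` is quasi-compact if `s` is and `U` is quasi-separated over `S`. -/
theorem quasiCompact_j [QuasiSeparated G.pU] [QuasiCompact G.s] : QuasiCompact G.j := by
  have : QuasiCompact (G.j ≫ pullback.snd G.pU G.pU) := by rw [j_snd]; infer_instance
  exact QuasiCompact.of_comp G.j (pullback.snd G.pU G.pU)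

theorem quasiSeparated_j [QuasiSeparated G.s] : QuasiSeparated G.j := by
  have : QuasiSeparated (G.j ≫ pullback.snd G.pU G.pU) := by rw [j_snd]; infer_instance
  exact QuasiSeparated.of_comp G.j (pullback.snd G.pU G.pU)

section

variable {Z : Scheme.{u}} (g : Z ⟶ G.U)

/-- The Cohen-Macaulay property spreads from the identity section. -/
theorem isCMAt_src [LocallyOfFiniteType G.s] [LocallyOfFiniteType G.t] [Flat G.s] [Flat G.t]
    [LocallyOfFiniteType g] (h : ∀ w : Z, Grpd.IsCMAt (K393.Slice.src G g) (sec G g w))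
    (v : ↥(pullback g G.t)) : Grpd.IsCMAt (K393.Slice.src G g) v := by
  have hsrc : LocallyOfFiniteType (K393.Slice.src G g) := by
    have : LocallyOfFiniteType (pullback.snd g G.t) := inferInstance
    unfold K393.Slice.src
    infer_instance
  exact (iff_sec G g Grpd.IsCMAt (fun q => isCMAt_iff_of_isPullback (isPullback_trans G g) q)
    (fun q => isCMAt_iff_of_isPullback (isPullback_fst G g) q) v).mpr (h _)

/-- The fibres of `src` are quasi-compact if `Z` is affine and maps to an affine open of `S`. -/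
theorem compactSpace_fiber [QuasiSeparated G.pU] [QuasiCompact G.s] [IsAffine Z] (S₀ : S.Opens)
    (hS₀ : IsAffineOpen S₀) (hZ : ∀ w : Z, (g ≫ G.pU) w ∈ S₀) (z₀ : G.U) (hz₀ : G.pU z₀ ∈ S₀) :
    CompactSpace ((K393.Slice.src G g).fiber z₀) := by
  have hj := quasiCompact_j G
  have hjZ : QuasiCompact (jZ G g) := MorphismProperty.of_isPullback (isPullback_jZ G g) hj
  let x₀ := G.U.fromSpecResidueField z₀
  let P := pullback (g ≫ G.pU) (x₀ ≫ G.pU)
  have hP : IsAffine P := isAffine_pullback _ _ S₀ hS₀ hZ (fun t => by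
    have : t = IsLocalRing.closedPoint _ := Subsingleton.elim _ _
    rw [Scheme.Hom.comp_apply, this]
    change G.pU (G.U.fromSpecResidueField z₀ _) ∈ S₀
    rw [Scheme.fromSpecResidueField_apply]
    exact hz₀)
  let m : P ⟶ pullback (g ≫ G.pU) G.pU := pullback.map _ _ _ _ (𝟙 _) x₀ (𝟙 _) (by simp) (by simp)
  have hm : IsPullback m (pullback.snd (g ≫ G.pU) (x₀ ≫ G.pU)) (pullback.snd (g ≫ G.pU) G.pU) x₀ := by
    refine K393.SliceStalk.isPullback_of_exists ?_ ?_ ?_
    · rw [pullback.lift_snd]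
    · intro T a b h
      refine ⟨pullback.lift (a ≫ pullback.fst _ _) b ?_, ?_, pullback.lift_snd _ _ _⟩
      · rw [← Category.assoc b, ← h, Category.assoc, Category.assoc, pullback.condition]
      · apply pullback.hom_ext
        · rw [Category.assoc, pullback.lift_fst, Category.comp_id, pullback.lift_fst]
        · rw [Category.assoc, pullback.lift_snd, pullback.lift_snd_assoc, h]
    · intro T a b h1 h2
      apply pullback.hom_ext _ h2
      have := congr($h1 ≫ pullback.fst (g ≫ G.pU) G.pU)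
      rwa [Category.assoc, pullback.lift_fst, Category.assoc, pullback.lift_fst, Category.comp_id] at this
  let f := K393.Slice.src G g
  have hF : IsPullback (f.fiberι z₀) (f.fiberToSpecResidueField z₀) (jZ G g ≫ pullback.snd (g ≫ G.pU) G.pU)
      x₀ := by
    rw [jZ_snd]
    exact IsPullback.of_hasPullback _ _
  let k : f.fiber z₀ ⟶ P := hm.lift (f.fiberι z₀ ≫ jZ G g) (f.fiberToSpecResidueField z₀) (by
    rw [Category.assoc]; exact hF.w)
  have hk1 : k ≫ m = f.fiberι z₀ ≫ jZ G g := hm.lift_fst _ _ _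
  have hk2 : k ≫ pullback.snd (g ≫ G.pU) (x₀ ≫ G.pU) = f.fiberToSpecResidueField z₀ := hm.lift_snd _ _ _
  rw [← hk2] at hF
  have hk : IsPullback (f.fiberι z₀) k (jZ G g) m := (IsPullback.of_right hF.flip hk1 hm.flip).flip
  have hkq : QuasiCompact k := MorphismProperty.of_isPullback hk hjZ
  exact QuasiCompact.compactSpace_of_compactSpace k

end

/-- **Slices.** Through the orbit of a point `x` closed in its fibre over `S` passes an affine subscheme
`Z` of `U`, lying over an affine open of `S`, such that `Z ×_U R ⟶ U` is flat and `Z` meets the orbit in a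
finite set. -/
theorem exists_slice [LocallyOfFiniteType G.pU] [QuasiSeparated G.pU] [Flat G.s]
    [LocallyOfFinitePresentation G.s] [QuasiCompact G.s] [Flat G.t] [LocallyOfFinitePresentation G.t]
    (x : G.U) (hx : closure ({x} : Set G.U) ∩ G.pU ⁻¹' {G.pU x} = {x}) :
    ∃ (Z : Scheme.{u}) (_ : IsAffine Z) (g : Z ⟶ G.U) (S₀ : S.Opens) (z : Z) (r : G.R),
      IsAffineOpen S₀ ∧ IsImmersion g ∧ LocallyOfFinitePresentation g ∧ (∀ w : Z, (g ≫ G.pU) w ∈ S₀) ∧
        G.s r = x ∧ G.t r = g z ∧ Flat (K393.Slice.src G g) ∧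
        {z : Z | ∃ r : G.R, G.s r = x ∧ G.t r = g z}.Finite := by
  obtain ⟨U', hU', -, -, hsurj⟩ := Groth.Agent.S1936.result S G
  -- a point of the orbit at which `s` is Cohen-Macaulay along the identity
  obtain ⟨r₀, hr₀, hr₀x⟩ : x ∈ ⇑G.s '' (G.t ⁻¹ᵁ U' : Set G.R) := by rw [hsurj]; trivial
  obtain ⟨r, hrU, hrs, hrc⟩ := K616.FlatDim.exists_closed_asFiber G.s (G.t ⁻¹ᵁ U') r₀ hr₀
  have hrx : G.s r = x := hrs.trans hr₀x
  have h1 := rtd_eq_zero_of_asFiber G.s r hrc
  have h2 := rtd_eq_zero_of_closure G.pU x hx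
  have h3 : rtd (G.s ≫ G.pU) r = 0 := by rw [rtd_comp, h1, hrx, h2, add_zero]
  obtain ⟨z₀, hz₀⟩ : ∃ z₀, z₀ = G.t r := ⟨_, rfl⟩
  have hpU : G.pU z₀ = G.pU x := by
    rw [hz₀, ← hrx, ← Scheme.Hom.comp_apply, ← Scheme.Hom.comp_apply, G.t_over, G.s_over]
  have h4 : rtd G.pU z₀ = 0 := by
    rw [G.s_over, ← G.t_over, rtd_comp] at h3
    rw [hz₀]
    exact (add_eq_zero.mp h3).1
  have hu := K393.SliceMain.locallyOfFiniteType_restrict_s_of_finite G z₀
    (locallyOfFiniteType_residueFieldMap G.pU z₀ h4)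
  have hCM : Grpd.IsCMAt G.s (G.e z₀) := by
    have : G.e z₀ ∈ (G.t ⁻¹ᵁ U' : Set G.R) := by
      change G.t (G.e z₀) ∈ U'
      rw [← Scheme.Hom.comp_apply, G.e_t, hz₀]
      exact hrU
    rw [hU'] at this
    exact this
  obtain ⟨Z₁, g₁, z₁, d, hA₁, hI₁, hP₁, hgz₁, -, hd, -, hcm₁, hle₁⟩ :=
    K393.SliceMain.exists_slice' G z₀ hCM hu
  -- shrink
  obtain ⟨S₀, hS₀, hxS₀⟩ : ∃ V : S.Opens, IsAffineOpen V ∧ G.pU z₀ ∈ V := by
    obtain ⟨_, ⟨V, hV, rfl⟩, hx, -⟩ := S.isBasis_affineOpens.exists_subset_of_mem_open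
      (Set.mem_univ (G.pU z₀)) isOpen_univ
    exact ⟨V, hV, hx⟩
  obtain ⟨V, hV, hzV, hVW⟩ : ∃ V : Z₁.Opens, IsAffineOpen V ∧ z₁ ∈ V ∧
      (V : Set Z₁) ⊆ ((g₁ ≫ G.pU) ⁻¹ᵁ S₀ : Z₁.Opens) := by
    obtain ⟨_, ⟨V, hV, rfl⟩, hx, h⟩ := Z₁.isBasis_affineOpens.exists_subset_of_mem_open
      (a := z₁) (u := (((g₁ ≫ G.pU) ⁻¹ᵁ S₀ : Z₁.Opens) : Set Z₁)) (by
        change (g₁ ≫ G.pU) z₁ ∈ S₀
        rw [Scheme.Hom.comp_apply, hgz₁]
        exact hxS₀) ((g₁ ≫ G.pU) ⁻¹ᵁ S₀).isOpen
    exact ⟨V, hV, hx, h⟩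
  let g : (V : Scheme.{u}) ⟶ G.U := V.ι ≫ g₁
  have hA : IsAffine (V : Scheme.{u}) := hV
  have hI : IsImmersion g := inferInstanceAs (IsImmersion (V.ι ≫ g₁))
  have hP : LocallyOfFinitePresentation g := inferInstanceAs (LocallyOfFinitePresentation (V.ι ≫ g₁))
  have hcm : ∀ v, Grpd.IsCMAt (K393.Slice.src G g) v := isCMAt_src G g fun w => by
    rw [← kap_src, isCMAt_comp_iff, sec_kap_apply]
    exact hcm₁ _
  have hle : ∀ v, FlatMor.fibreDimAt (K393.Slice.src G g) v ≤ d :=
    K393.SliceMain.fibreDimAt_src_le G g d fun w => by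
      rw [← kap_src, Ega4fib.H172.FibDimBC.fibreDimAt_isOpenImmersion_comp, sec_kap_apply]
      exact hle₁ _
  have hZ : ∀ w : V, (g ≫ G.pU) w ∈ S₀ := fun w => hVW w.2
  have hj := locallyOfFiniteType_j G
  have hfin := finite_orbit G g z₀ h4 d (fun c hc => hd ▸ le_fibreDimAt_j G z₀ hu c hc) hle
    (compactSpace_fiber G g S₀ hS₀ hZ z₀ hxS₀)
  refine ⟨V, hA, g, S₀, ⟨z₁, hzV⟩, r, hS₀, hI, hP, hZ, hrx, ?_, K393.SliceMain.flat_of_isCMAt _ hcm,
    hfin.subset ?_⟩
  · rw [← hz₀, ← hgz₁]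
    rfl
  · rintro w ⟨r', hr', hr'w⟩
    obtain ⟨q, hq1, hq2⟩ := exists_inv G r
    obtain ⟨c, hc1, hc2⟩ := exists_comp G r' q (by rw [hr', hq1, hrx])
    exact ⟨c, by rw [hc2, hq2, hz₀], by rw [hc1, hr'w]⟩

end K741.SliceEx
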