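import Groth.Agent.Grpd.K393.SliceMain
import Groth.Agent.AlgSp.K616.FibField
import Groth.Agent.AlgSp.K616.FlatDim
import Groth.Agent.Ega4fib.H175.JacobsonDim
import Groth.Agent.Flat2B.PointBC

/-!
# Slices meet orbits in finite sets

* `fibreDimAt_j`: the local fibre dimension of `j = (t, s)` at an arrow `c` is the one of the stabilizer at the
  identity of `s c`.
* `rtd_snd_eq_zero`: arrows with target in a slice `Z` of relative dimension at most `dim G_z`.
* `finite_orbit`: such a slice meets the orbit of `z` in finitely many points.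
-/

set_option autoImplicit false
universe u

open CategoryTheory CategoryTheory.Limits AlgebraicGeometry Opposite TopologicalSpace

namespace K741.SliceFin

open Groth.Agent Groth.Agent.Grpsch.Points Groth.Agent.Grpsch.Restrict
open Groth.Agent.CycB.RelDim Groth.Agent.VarietyA.LocDim
open Groth.Agent.Ega4fib.H172.FibDimBC

section General

variable {X Y Z : Scheme.{u}}

/-- A point closed in its fibre has residue transcendence degree zero. -/
theorem rtd_eq_zero_of_asFiber (f : X ⟶ Y) [LocallyOfFiniteType f] (x : X)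
    (h : IsClosed ({f.asFiber x} : Set (f.fiber (f x)))) : rtd f x = 0 := by
  have : LocallyOfFiniteType (f.fiberToSpecResidueField (f x)) :=
    inferInstanceAs (LocallyOfFiniteType (pullback.snd f (Y.fromSpecResidueField (f x))))
  have h1 := Ega4fib.H175.JacobsonDim.rtd_eq_zero_of_isClosed (f.fiberToSpecResidueField (f x)) h
  rw [rtd_fiberToSpecResidueField, Scheme.Hom.fiberι_asFiber] at h1
  exact h1

/-- A point closed in its fibre has residue transcendence degree zero. -/
theorem rtd_eq_zero_of_closure (f : X ⟶ Y) [LocallyOfFiniteType f] (x : X)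
    (h : closure ({x} : Set X) ∩ f ⁻¹' {f x} = {x}) : rtd f x = 0 := by
  refine rtd_eq_zero_of_asFiber f x ?_
  rw [← closure_subset_iff_isClosed]
  intro z hz
  have h1 : f.fiberι (f x) z ∈ closure ({x} : Set X) := by
    have h2 : f.asFiber x ⤳ z := specializes_iff_mem_closure.mpr hz
    have h3 := h2.map (f.fiberι (f x)).continuous
    rw [Scheme.Hom.fiberι_asFiber] at h3
    exact specializes_iff_mem_closure.mp h3
  have h2 : f.fiberι (f x) z ∈ f ⁻¹' {f x} := by
    have : f.fiberι (f x) z ∈ Set.range (f.fiberι (f x)) := ⟨z, rfl⟩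
    rw [Scheme.Hom.range_fiberι] at this
    exact this
  have h3 : f.fiberι (f x) z = x := by
    have : f.fiberι (f x) z ∈ ({x} : Set X) := h.subset ⟨h1, h2⟩
    exact this
  apply (f.fiberι (f x)).isEmbedding.injective
  rw [h3, Scheme.Hom.fiberι_asFiber]

/-- In a composition `X ⟶ Y ⟶ Z` with all fibres of dimension at most `d`, a point over which the fibre of
`X ⟶ Y` has dimension at least `d` is algebraic over its image. -/
theorem rtd_eq_zero_of_le (f : X ⟶ Y) (g : Y ⟶ Z) [LocallyOfFiniteType f] [LocallyOfFiniteType (f ≫ g)]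
    (d : ℕ) (x : X) (h1 : (d : WithBot ℕ∞) ≤ FlatMor.fibreDimAt f x)
    (h2 : ∀ z : X, f z = f x → FlatMor.fibreDimAt (f ≫ g) z ≤ d) : rtd g (f x) = 0 := by
  obtain ⟨z, -, hfz, -, n, hn, hn'⟩ := exists_fibGeneric_rtd_eq f x
  obtain ⟨m, hm, hm'⟩ := le_fibreDimAt (f ≫ g) z z (specializes_refl z) rfl
  rw [hn'] at h1
  have h3 : d ≤ n := by exact_mod_cast h1
  have h4 : m ≤ d := by exact_mod_cast hm'.trans (h2 z hfz)
  rw [rtd_comp, hn, hfz] at hm
  have h5 : rtd g (f x) < Cardinal.aleph0 := by
    refine lt_of_le_of_lt ?_ (Cardinal.natCast_lt_aleph0 (n := m))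
    rw [← hm]
    exact le_self_add
  obtain ⟨k, hk⟩ := Cardinal.lt_aleph0.mp h5
  rw [hk] at hm ⊢
  have h6 : k + n = m := by exact_mod_cast hm
  have h7 : k = 0 := by omega
  rw [h7, Nat.cast_zero]

/-- A map which is constant along specializations has finite range on a Noetherian sober space. -/
theorem finite_range_of_specializes {F : Type*} [TopologicalSpace F] [NoetherianSpace F] [QuasiSober F]
    {E : Type*} (φ : F → E) (h : ∀ p q : F, p ⤳ q → φ p = φ q) : (Set.range φ).Finite := by
  classical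
  rcases isEmpty_or_nonempty F with hF | hF
  · exact (Set.range_eq_empty φ) ▸ Set.finite_empty
  have hfin := NoetherianSpace.finite_irreducibleComponents (α := F)
  have hg : ∀ C ∈ irreducibleComponents F, ∃ p : F, IsGenericPoint p C := fun C hC =>
    QuasiSober.sober (irreducibleComponents_eq_maximals_closed F ▸ hC).1.2
      (irreducibleComponents_eq_maximals_closed F ▸ hC).1.1
  choose! p hp using hg
  refine (hfin.image fun C => φ (p C)).subset ?_
  rintro _ ⟨q, rfl⟩
  refine ⟨irreducibleComponent q, irreducibleComponent_mem_irreducibleComponents q, ?_⟩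
  refine h _ _ ?_
  have h1 := hp _ (irreducibleComponent_mem_irreducibleComponents q)
  exact h1.specializes mem_irreducibleComponent

end General

variable {S : Scheme.{u}} (G : Grpd.GroupoidScheme S)

/-- Pairs of arrows with the same target and source, `(r, r') ↦ (r, r⁻¹ r')`. -/
theorem isPullback_jDiff :
    IsPullback (jDiff G) (pullback.fst G.j G.j) G.stabilizerToU G.s := by
  refine K393.SliceStalk.isPullback_of_exists (stabLift_stabilizerToU _ _ _ _ _) ?_ ?_
  · intro T a b h
    have h0 : b ≫ G.s = (a ≫ stabToR G) ≫ G.t := by rw [Category.assoc, stabToR_t, h]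
    have hm : b ≫ G.j = mul G b (a ≫ stabToR G) h0 ≫ G.j := by
      rw [comp_j_eq_iff]
      exact ⟨by rw [mul_t], by rw [mul_s, Category.assoc, stabToR_s, h]⟩
    refine ⟨pullback.lift b (mul G b (a ≫ stabToR G) h0) hm, ?_, pullback.lift_fst _ _ _⟩
    apply stab_hom_ext
    rw [jDiff, Category.assoc, stabLift_stabToR, comp_mul]
    have h1 : (b ≫ G.i) ≫ G.s = mul G b (a ≫ stabToR G) h0 ≫ G.t := by rw [mul_t, inv_s]
    refine Eq.trans (mul_congr G _ ?_ ?_) (inv_mul_cancel_left G b (a ≫ stabToR G) h0 h1)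
    · rw [pullback.lift_fst_assoc]
    · rw [pullback.lift_snd]
  · intro T a b h1 h2
    apply pullback.hom_ext h2
    have e1 := congrArg (fun f => f ≫ stabToR G) h1
    simp only [jDiff, Category.assoc, stabLift_stabToR, comp_mul] at e1
    have aux : ∀ x : T ⟶ pullback G.j G.j,
        (x ≫ pullback.fst G.j G.j ≫ G.i) ≫ G.s = (x ≫ pullback.snd G.j G.j) ≫ G.t := by
      intro x
      have := ((comp_j_eq_iff G _ _).mp (pullback.condition (f := G.j) (g := G.j))).1
      simp [this]
    have e2 : mul G (a ≫ pullback.fst G.j G.j ≫ G.i) (a ≫ pullback.snd G.j G.j) (aux a) =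
        mul G (a ≫ pullback.fst G.j G.j ≫ G.i) (b ≫ pullback.snd G.j G.j) (by
          have := aux b
          rw [← Category.assoc b, ← h2, Category.assoc] at this
          exact this) := by
      rw [e1]
      refine mul_congr G _ ?_ rfl
      rw [← Category.assoc, ← h2, Category.assoc]
    exact mul_left_cancel G _ _ _ _ _ e2

/-- The fibre dimension of `j` at an arrow is the dimension of the stabilizer of its source at the
identity. -/
theorem fibreDimAt_j [LocallyOfFiniteType G.j] (c : G.R) :
    FlatMor.fibreDimAt G.j c = FlatMor.fibreDimAt G.stabilizerToU (G.eStab (G.s c)) := by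
  have : LocallyOfFiniteType G.stabilizerToU := inferInstanceAs (LocallyOfFiniteType (pullback.snd _ _))
  have h1 := fibreDimAt_of_isPullback (IsPullback.of_hasPullback G.j G.j).flip (pullback.diagonal G.j c)
  have h2 := fibreDimAt_of_isPullback (isPullback_jDiff G) (pullback.diagonal G.j c)
  have e1 : pullback.snd G.j G.j (pullback.diagonal G.j c) = c := by
    rw [← Scheme.Hom.comp_apply, pullback.diagonal_snd]; rfl
  have e2 : jDiff G (pullback.diagonal G.j c) = G.eStab (G.s c) := by
    rw [← Scheme.Hom.comp_apply, (isPullback_diagonal_j G).w, Scheme.Hom.comp_apply]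
  rw [e1] at h1
  rw [e2] at h2
  rw [← h1, h2]

theorem fibreDimAt_j_eq [LocallyOfFiniteType G.j] (c : G.R) :
    FlatMor.fibreDimAt G.j c = FlatMor.fibreDimAt G.j (G.e (G.s c)) := by
  have h : G.s (G.e (G.s c)) = G.s c := by
    rw [← Scheme.Hom.comp_apply, G.e_s]; rfl
  rw [fibreDimAt_j, fibreDimAt_j, h]

/-- Over a field, the fibre dimension of `j` at the identity is at least the dimension of the stabilizer. -/
theorem le_fibreDimAt_j_field (k : Type u) [Field k] (eU : G.U ≅ Spec (CommRingCat.of k))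
    [LocallyOfFiniteType G.s] [LocallyOfFiniteType G.t] [LocallyOfFiniteType G.j] (u : G.U) :
    topologicalKrullDim G.stabilizer ≤ FlatMor.fibreDimAt G.j (G.e u) := by
  have hsub : Subsingleton G.U := eU.hom.homeomorph.injective.subsingleton
  have h0 := fibreDimAt_j G (G.e u)
  have h : G.s (G.e u) = u := Subsingleton.elim _ _
  rw [h0, h, ← Grpsch.FieldStab.topologicalKrullDim_eq G k eU u,
    Grpsch.FieldDim.topologicalKrullDim_eq_coheight_e G k eU u, ← Grpsch.FieldStab.coheight_eStab G k eU u]
  rw [Groth.Agent.FlatA.FibreDim.fibreDimAt_eq]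
  have hu : (G.stabilizerToU : G.stabilizer → G.U) ⁻¹' {G.stabilizerToU (G.eStab u)} = Set.univ :=
    Set.eq_univ_of_forall fun y => Subsingleton.elim _ _
  have h2 := Groth.Agent.Flat2B.PointBC.localDim_homeomorph
    ((Homeomorph.setCongr hu).trans (Homeomorph.Set.univ G.stabilizer)) ⟨G.eStab u, rfl⟩
  exact (K616.FlatDim.coheight_le_localDim (G.eStab u)).trans h2.symm.le

/-- The fibre dimension of `j` at an arrow with source `u` is at least `dim G_u`. -/
theorem le_fibreDimAt_j [LocallyOfFiniteType G.j] (u : G.U)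
    (hs : LocallyOfFiniteType (restrict G (G.U.fromSpecResidueField u)).s) (c : G.R) (hc : G.s c = u) :
    topologicalKrullDim ↥(G.stabilizerToU.fiber u) ≤ FlatMor.fibreDimAt G.j c := by
  let x := G.U.fromSpecResidueField u
  let G' := restrict G x
  let k := G.U.residueField u
  let eU : G'.U ≅ Spec (CommRingCat.of k) := Iso.refl _
  have hs' : LocallyOfFiniteType G'.s := hs
  have ht' : LocallyOfFiniteType G'.t := (s_iff_t G' (@LocallyOfFiniteType : MorphismProperty Scheme.{u})).mp hs'
  let pt : ↥(Spec (G.U.residueField u)) := IsLocalRing.closedPoint (G.U.residueField u)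
  let e' : Spec (G.U.residueField u) ⟶ arrows G x := G'.e
  have hx : x pt = u := Scheme.fromSpecResidueField_apply _ _
  have hρ : toR G x (e' pt) = G.e u := by
    have h1 : e' ≫ toR G x = x ≫ G.e := mk_toR G x _ _ _ (by simp) (by simp)
    rw [← Scheme.Hom.comp_apply, h1, Scheme.Hom.comp_apply, hx]
  have hpb := K393.SliceMain.isPullback_restrict_j G x
  have hj' : LocallyOfFiniteType G'.j := MorphismProperty.of_isPullback (P := @LocallyOfFiniteType) hpb ‹_›
  have h1 := le_fibreDimAt_j_field G' k eU pt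
  have h2 : FlatMor.fibreDimAt G'.j (e' pt) = FlatMor.fibreDimAt G.j (toR G x (e' pt)) :=
    fibreDimAt_of_isPullback hpb (e' pt)
  rw [hρ] at h2
  rw [fibreDimAt_j_eq, hc, ← h2]
  refine le_trans (le_of_eq ?_) h1
  obtain ⟨κ, hκ⟩ := K393.SliceStalk.exists_isPullback_stab G x
  exact (IsHomeomorph.topologicalKrullDim_eq _ (hκ.isoPullback.hom.homeomorph).isHomeomorph).symm

section Slice

variable {Z : Scheme.{u}} (g : Z ⟶ G.U)

/-- `Z ×_U R ⟶ Z ×_S U`, `(z, r) ↦ (z, s r)`. -/
noncomputable def jZ : pullback g G.t ⟶ pullback (g ≫ G.pU) G.pU :=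
  pullback.lift (pullback.fst g G.t) (K393.Slice.src G g) (by
    rw [pullback.condition_assoc, G.t_over, Category.assoc, G.s_over])

@[reassoc (attr := simp)]
lemma jZ_fst : jZ G g ≫ pullback.fst (g ≫ G.pU) G.pU = pullback.fst g G.t := pullback.lift_fst _ _ _

@[reassoc (attr := simp)]
lemma jZ_snd : jZ G g ≫ pullback.snd (g ≫ G.pU) G.pU = K393.Slice.src G g := pullback.lift_snd _ _ _

/-- `jZ` is a base change of `j`. -/
theorem isPullback_jZ : IsPullback (pullback.snd g G.t) (jZ G g) G.j
    (pullback.map (g ≫ G.pU) G.pU G.pU G.pU g (𝟙 _) (𝟙 _) (by simp) (by simp)) := by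
  refine K393.SliceStalk.isPullback_of_exists ?_ ?_ ?_
  · apply pullback.hom_ext
    · rw [Category.assoc, j_fst, Category.assoc, pullback.lift_fst, jZ_fst_assoc, pullback.condition]
    · rw [Category.assoc, j_snd, Category.assoc, pullback.lift_snd, Category.comp_id, jZ_snd]
  · intro T a b h
    have h1 : a ≫ G.t = (b ≫ pullback.fst (g ≫ G.pU) G.pU) ≫ g := by
      have := congr($h ≫ pullback.fst G.pU G.pU)
      rw [Category.assoc, j_fst, Category.assoc, pullback.lift_fst] at this
      rw [this, Category.assoc]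
    have h2 : a ≫ G.s = b ≫ pullback.snd (g ≫ G.pU) G.pU := by
      have := congr($h ≫ pullback.snd G.pU G.pU)
      rwa [Category.assoc, j_snd, Category.assoc, pullback.lift_snd, Category.comp_id] at this
    refine ⟨pullback.lift (b ≫ pullback.fst (g ≫ G.pU) G.pU) a h1.symm, pullback.lift_snd _ _ _, ?_⟩
    apply pullback.hom_ext
    · rw [Category.assoc, jZ_fst, pullback.lift_fst]
    · rw [Category.assoc, jZ_snd, pullback.lift_snd_assoc, h2]
  · intro T a b h1 h2
    apply pullback.hom_ext _ h1
    have := congr($h2 ≫ pullback.fst (g ≫ G.pU) G.pU)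
    rwa [Category.assoc, jZ_fst, Category.assoc, jZ_fst] at this

variable [LocallyOfFiniteType G.pU] [LocallyOfFiniteType G.s] [LocallyOfFiniteType G.t]
  [LocallyOfFiniteType g]

omit [LocallyOfFiniteType G.pU] [LocallyOfFiniteType G.t] [LocallyOfFiniteType g] in
theorem locallyOfFiniteType_j : LocallyOfFiniteType G.j := by
  have : LocallyOfFiniteType (G.j ≫ pullback.snd G.pU G.pU) := by rw [j_snd]; infer_instance
  exact locallyOfFiniteType_of_comp G.j (pullback.snd G.pU G.pU)

omit [LocallyOfFiniteType G.t] in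
/-- The first projection of an arrow `(z, r)` with `s r = z₀` and target in the slice is algebraic over
the base if `z₀` is. -/
theorem rtd_fst_eq_zero (z₀ : G.U) (hz₀ : rtd G.pU z₀ = 0) (d : ℕ)
    (hd : ∀ c : G.R, G.s c = z₀ → (d : WithBot ℕ∞) ≤ FlatMor.fibreDimAt G.j c)
    (hle : ∀ v, FlatMor.fibreDimAt (K393.Slice.src G g) v ≤ d) (v : ↥(pullback g G.t))
    (hv : K393.Slice.src G g v = z₀) : rtd (g ≫ G.pU) (pullback.fst g G.t v) = 0 := by
  have hj := locallyOfFiniteType_j G
  have hjZ : LocallyOfFiniteType (jZ G g) :=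
    MorphismProperty.of_isPullback (P := @LocallyOfFiniteType) (isPullback_jZ G g) hj
  have hsrc : LocallyOfFiniteType (jZ G g ≫ pullback.snd (g ≫ G.pU) G.pU) := inferInstance
  have h1 : (d : WithBot ℕ∞) ≤ FlatMor.fibreDimAt (jZ G g) v := by
    rw [fibreDimAt_of_isPullback (isPullback_jZ G g) v]
    refine hd _ ?_
    rw [← Scheme.Hom.comp_apply]
    exact hv
  have h2 := rtd_eq_zero_of_le (jZ G g) (pullback.snd (g ≫ G.pU) G.pU) d v h1 (fun z _ => by
    rw [jZ_snd]; exact hle z)
  have e1 : pullback.snd (g ≫ G.pU) G.pU (jZ G g v) = z₀ := by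
    rw [← Scheme.Hom.comp_apply, jZ_snd, hv]
  have e2 : pullback.fst (g ≫ G.pU) G.pU (jZ G g v) = pullback.fst g G.t v := by
    rw [← Scheme.Hom.comp_apply, jZ_fst]
  have h3 : rtd (pullback.snd (g ≫ G.pU) G.pU ≫ G.pU) (jZ G g v) = 0 := by
    rw [rtd_comp, h2, e1, hz₀, add_zero]
  rw [← pullback.condition, rtd_comp, e2] at h3
  exact (add_eq_zero.mp h3).1

/-- A slice of relative dimension at most `dim G_{z₀}` meets the orbit of `z₀` in a finite set. -/
theorem finite_orbit (z₀ : G.U) (hz₀ : rtd G.pU z₀ = 0) (d : ℕ)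
    (hd : ∀ c : G.R, G.s c = z₀ → (d : WithBot ℕ∞) ≤ FlatMor.fibreDimAt G.j c)
    (hle : ∀ v, FlatMor.fibreDimAt (K393.Slice.src G g) v ≤ d)
    (hqc : CompactSpace ((K393.Slice.src G g).fiber z₀)) :
    {z : Z | ∃ r : G.R, G.s r = z₀ ∧ G.t r = g z}.Finite := by
  let f := K393.Slice.src G g
  have hsrc : LocallyOfFiniteType f := by
    have : LocallyOfFiniteType (pullback.snd g G.t) := inferInstance
    change LocallyOfFiniteType (pullback.snd g G.t ≫ G.s)
    infer_instance
  have hln : IsLocallyNoetherian (f.fiber z₀) := K393.SliceCM.isLocallyNoetherian_fiber f z₀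
  have hn : IsNoetherian (f.fiber z₀) := { hln with toCompactSpace := hqc }
  let φ : f.fiber z₀ → Z := fun p => pullback.fst g G.t (f.fiberι z₀ p)
  have hfib : ∀ p, f (f.fiberι z₀ p) = z₀ := fun p => by
    have : f.fiberι z₀ p ∈ Set.range (f.fiberι z₀) := ⟨p, rfl⟩
    rw [Scheme.Hom.range_fiberι] at this
    exact this
  have hover : ∀ v : ↥(pullback g G.t), (g ≫ G.pU) (pullback.fst g G.t v) = G.pU (f v) := by
    intro v
    have h1 : pullback.fst g G.t ≫ g ≫ G.pU = f ≫ G.pU := by
      change _ = (pullback.snd g G.t ≫ G.s) ≫ G.pU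
      rw [pullback.condition_assoc, G.t_over, Category.assoc, G.s_over]
    rw [← Scheme.Hom.comp_apply, ← Scheme.Hom.comp_apply, h1]
  have hfin : (Set.range φ).Finite := by
    refine finite_range_of_specializes φ fun p q hpq => ?_
    by_contra hne
    have h1 : φ p ⤳ φ q := (hpq.map (f.fiberι z₀).continuous).map (pullback.fst g G.t).continuous
    have h2 : (g ≫ G.pU) (φ p) = (g ≫ G.pU) (φ q) := by
      rw [hover, hover, hfib, hfib]
    have h3 := rtd_lt_of_specializes (g ≫ G.pU) h1 hne h2
    rw [rtd_fst_eq_zero G g z₀ hz₀ d hd hle (f.fiberι z₀ p) (hfib p)] at h3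
    exact absurd h3 not_lt_zero
  refine hfin.subset ?_
  rintro z ⟨r, hr1, hr2⟩
  obtain ⟨v, hv1, hv2⟩ := Scheme.Pullback.exists_preimage_pullback z r hr2.symm
  have hfv : f v = z₀ := by
    change (pullback.snd g G.t ≫ G.s) v = z₀
    rw [Scheme.Hom.comp_apply, hv2, hr1]
  have hv' : v ∈ Set.range (f.fiberι z₀) := by
    rw [Scheme.Hom.range_fiberι]
    exact hfv
  obtain ⟨p, rfl⟩ := hv'
  exact ⟨p, hv1⟩

end Slice

end K741.SliceFin
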